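import Groth.Agent.Lib.Stein.FieldCase

/-!
# Geometric connectedness from the functions
-/

set_option autoImplicit false
set_option backward.isDefEq.respectTransparency false
set_option linter.style.haveILetI false

universe u

open CategoryTheory CategoryTheory.Limits AlgebraicGeometry Opposite

namespace GrothLib.GCFun11

/-- A proper scheme whose only functions are the constants is geometrically connected. -/
theorem geometricallyConnected_of_bijective {k : Type u} [Field k] {X : Scheme.{u}}
    (f : X ⟶ Spec (CommRingCat.of k)) [IsProper f]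
    (h : Function.Bijective ((Scheme.ΓSpecIso (CommRingCat.of k)).inv ≫ f.appTop)) :
    GeometricallyConnected f := by
  haveI : IsIso ((Scheme.ΓSpecIso (CommRingCat.of k)).inv ≫ f.appTop) :=
    (ConcreteCategory.isIso_iff_bijective _).2 h
  have hab : X.toSpecΓ ≫ Spec.map ((Scheme.ΓSpecIso (CommRingCat.of k)).inv ≫ f.appTop) = f := by
    rw [Spec.map_comp, ← Category.assoc, ← Scheme.toSpecΓ_naturality, Category.assoc]
    simp
  haveI : IsProper (X.toSpecΓ ≫ Spec.map ((Scheme.ΓSpecIso (CommRingCat.of k)).inv ≫ f.appTop)) := by
    rw [hab]; infer_instance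
  haveI : IsProper X.toSpecΓ :=
    IsProper.of_comp _ (Spec.map ((Scheme.ΓSpecIso (CommRingCat.of k)).inv ≫ f.appTop))
  haveI := GrothLib.Stein.geometricallyConnected_toSpecΓ X
  rw [← hab]
  exact GrothLib.Stein.geometricallyConnected_comp_univHomeo _ _ (by
    intro P T g' a f' hpb
    haveI := hpb.isIso_fst_of_isIso
    exact (Scheme.Hom.homeomorph _).isHomeomorph)

end GrothLib.GCFun11
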